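import Groth.Agent.MonoBG.SpanExt
import Groth.Agent.IsoNatLib.GerbeSection
import Groth.Agent.CurvOpen.Substack
import Groth.Agent.QuotLib.QuotStack

/-!
# The substack of objects locally isomorphic to a point, as a classifying stack
-/

set_option autoImplicit false
set_option linter.style.haveILetI false
set_option backward.isDefEq.respectTransparency false
set_option backward.isDefEq.respectTransparency.types false

universe u

open CategoryTheory CategoryTheory.Functor CategoryTheory.Limits MonoidalCategory CartesianMonoidalCategory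
open Opposite AlgebraicGeometry AlgSp
open Groth.Agent.FibBase Groth.Agent.IsoNatLib

namespace Groth.Agent.MonoBG

variable {S : Scheme.{u}} {𝒳 : AlgSt.Cat S} {U : Over S} (x : FibCat.overCat U ⥤ᵇ 𝒳)

local notation "K₀" => Scheme.fppfPrecoverage
local notation "J₀" => QuotSh.J Scheme.fppfPrecoverage S

/-- Being locally a value of a chart. -/
def LocX (a : 𝒳.obj) : Prop :=
  ∃ R ∈ J₀ (𝒳.p.obj a), ∀ ⦃V : Over S⦄ (f : V ⟶ 𝒳.p.obj a), R f →
    ∃ (g : V ⟶ U) (φ : x.obj (Over.mk g) ⟶ a), 𝒳.p.IsHomLift f φ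

variable {x}

theorem locX_pull (h : FibCat.IsFibGrpd 𝒳.p) ⦃b a : 𝒳.obj⦄ (χ : b ⟶ a) (ha : LocX x a) : LocX x b := by
  obtain ⟨R, hR, hR'⟩ := ha
  refine ⟨R.pullback (𝒳.p.map χ), (J₀).pullback_stable _ hR, fun V f hf => ?_⟩
  obtain ⟨g, φ, hφ⟩ := hR' _ hf
  haveI := h.isStronglyCartesian χ
  refine ⟨g, IsStronglyCartesian.map 𝒳.p (𝒳.p.map χ) χ (g := f) (f' := f ≫ 𝒳.p.map χ) rfl φ, ?_⟩
  infer_instance

theorem locX_val (h : FibCat.IsFibGrpd 𝒳.p) (c : Over U) : LocX x (x.obj c) := by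
  refine ⟨⊤, (J₀).top_mem _, fun V f _ => ?_⟩
  let f' : V ⟶ c.left := f ≫ eqToHom (x.w_obj c)
  let q : Over.mk (f' ≫ c.hom) ⟶ c := Over.homMk f' rfl
  refine ⟨f' ≫ c.hom, x.map q, IsHomLift.of_fac' _ _ _ (x.w_obj _) rfl ?_⟩
  rw [Groth.Agent.StkLib.w_map, show (FibCat.overCat U).p.map q = f' from rfl]
  simp [f']

theorem locX_of_local (h : FibCat.IsFibGrpd 𝒳.p) {a : 𝒳.obj} {T : Over S} (hT : 𝒳.p.obj a = T) {R : Sieve T}
    (hR : R ∈ J₀ T)
    (hloc : ∀ ⦃V : Over S⦄ (f : V ⟶ T), R f → ∃ (b : 𝒳.obj) (χ : b ⟶ a), 𝒳.p.IsHomLift f χ ∧ LocX x b) :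
    LocX x a := by
  subst hT
  let Q : Sieve (𝒳.p.obj a) :=
    { arrows := fun W f => ∃ (g : W ⟶ U) (φ : x.obj (Over.mk g) ⟶ a), 𝒳.p.IsHomLift f φ
      downward_closed := fun {W W'} f hf k => by
        obtain ⟨g, φ, hφ⟩ := hf
        let q : Over.mk (k ≫ g) ⟶ Over.mk g := Over.homMk k rfl
        haveI : 𝒳.p.IsHomLift k (x.map q) := overMap_isHomLift x q
        exact ⟨k ≫ g, x.map q ≫ φ, inferInstance⟩ }
  refine ⟨Q, (J₀).transitive hR Q fun V f hf => ?_, fun V f hf => hf⟩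
  obtain ⟨b, χ, hχ, R', hR', hb⟩ := hloc f hf
  have e : 𝒳.p.obj b = V := IsHomLift.domain_eq 𝒳.p f χ
  subst e
  refine GrothendieckTopology.superset_covering _ ?_ hR'
  intro W k hk
  obtain ⟨g, φ, hφ⟩ := hb k hk
  exact ⟨g, φ ≫ χ, inferInstance⟩

theorem isStack_fullSub_locX (h𝒳 : Stk.IsStack J₀ 𝒳) : Stk.IsStack J₀ (AlgSt.fullSub 𝒳 (LocX x)) := by
  have hQ := locX_pull (x := x) h𝒳.1
  refine ⟨CurvOpen.isFibGrpd_full h𝒳.1 hQ, fun V R hR => ?_⟩
  let incl := AlgSt.subIncl 𝒳 (LocX x)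
  haveI : (Stk.resSieve R 𝒳).IsEquivalence := h𝒳.2 R hR
  refine { faithful := ⟨fun {G H} α β h => ?_⟩, full := ⟨fun {G H} α => ?_⟩, essSurj := ⟨fun G => ?_⟩ }
  · let α' : BasedFunctor.comp G incl ⟶ BasedFunctor.comp H incl := BasedCategory.whiskerRight α incl
    let β' : BasedFunctor.comp G incl ⟶ BasedFunctor.comp H incl := BasedCategory.whiskerRight β incl
    have h' : (Stk.resSieve R 𝒳).map α' = (Stk.resSieve R 𝒳).map β' := by
      apply BasedNatTrans.homCategory.ext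
      ext a
      exact congrArg (fun γ => (γ.toNatTrans.app a).hom) h
    have h2 := (Stk.resSieve R 𝒳).map_injective h'
    apply BasedNatTrans.homCategory.ext
    ext a
    exact congrArg (fun γ => γ.toNatTrans.app a) h2
  · let α' : (Stk.resSieve R 𝒳).obj (BasedFunctor.comp G incl) ⟶
        (Stk.resSieve R 𝒳).obj (BasedFunctor.comp H incl) :=
      { toNatTrans := { app := fun a => (α.toNatTrans.app a).hom,
                        naturality := fun a b f => congrArg (·.hom) (α.toNatTrans.naturality f) },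
        isHomLift' := fun a => (CurvOpen.isHomLift_full_iff _ _).1 (α.isHomLift' a) }
    obtain ⟨β, hβ⟩ := (Stk.resSieve R 𝒳).map_surjective α'
    refine ⟨{ toNatTrans := { app := fun a => ObjectProperty.homMk (β.toNatTrans.app a),
                              naturality := fun a b f => ObjectProperty.hom_ext _ (β.toNatTrans.naturality f) },
              isHomLift' := fun a => (CurvOpen.isHomLift_full_iff _ _).2 (β.isHomLift' a) }, ?_⟩
    apply BasedNatTrans.homCategory.ext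
    ext a
    exact congrArg (fun γ => γ.toNatTrans.app a) hβ
  · let G' : Stk.sieveCat R ⥤ᵇ 𝒳 := BasedFunctor.comp G incl
    let H := (Stk.resSieve R 𝒳).objPreimage G'
    let i : BasedFunctor.comp (Stk.sieveIncl R) H ≅ G' := (Stk.resSieve R 𝒳).objObjPreimageIso G'
    have hH : ∀ a : (FibCat.overCat V).obj, LocX x (H.obj a) := fun a => by
      refine locX_of_local h𝒳.1 (H.w_obj a) ((J₀).pullback_stable a.hom hR) fun W f hf => ?_
      let q : Over.mk (f ≫ a.hom) ⟶ a := Over.homMk f rfl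
      exact ⟨H.obj (Over.mk (f ≫ a.hom)), H.map q, overMap_isHomLift H q,
        hQ (isoApp i ⟨Over.mk (f ≫ a.hom), hf⟩).hom (G.obj ⟨Over.mk (f ≫ a.hom), hf⟩).property⟩
    refine ⟨CurvOpen.liftFull H hH, ⟨BasedNatIso.mkNatIso (NatIso.ofComponents
      (fun a => ObjectProperty.isoMk _ (isoApp i a)) fun f => ObjectProperty.hom_ext _ (natural i f)) fun a => ?_⟩⟩
    exact (CurvOpen.isHomLift_full_iff _ _).2 (isoApp_lift i rfl)

/-- Automorphisms in the full subcategory. -/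
def autFull (Q : 𝒳.obj → Prop) (a : (AlgSt.fullSub 𝒳 Q).obj) : Gerb.AutO a.obj ≃* Gerb.AutO a where
  toFun s :=
    { hom := ⟨ObjectProperty.homMk s.hom.1, (CurvOpen.isHomLift_full_iff _ _).2 s.hom.2⟩
      inv := ⟨ObjectProperty.homMk s.inv.1, (CurvOpen.isHomLift_full_iff _ _).2 s.inv.2⟩
      hom_inv_id := Subtype.ext (ObjectProperty.hom_ext _ (congrArg (fun k => k.1) s.hom_inv_id))
      inv_hom_id := Subtype.ext (ObjectProperty.hom_ext _ (congrArg (fun k => k.1) s.inv_hom_id)) }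
  invFun t :=
    { hom := ⟨t.hom.1.hom, (CurvOpen.isHomLift_full_iff _ _).1 t.hom.2⟩
      inv := ⟨t.inv.1.hom, (CurvOpen.isHomLift_full_iff _ _).1 t.inv.2⟩
      hom_inv_id := Subtype.ext (congrArg (fun k => k.1.hom) t.hom_inv_id)
      inv_hom_id := Subtype.ext (congrArg (fun k => k.1.hom) t.inv_hom_id) }
  left_inv s := Iso.ext (Subtype.ext rfl)
  right_inv t := Iso.ext (Subtype.ext rfl)
  map_mul' s t := Iso.ext (Subtype.ext rfl)

variable (G : Over S) [GrpObj G]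

/-- A point with affine automorphism group gives a fully faithful functor from the classifying stack. -/
theorem exists_bg_functor [IsAffineHom G.hom] (h𝒳 : Stk.IsStack J₀ 𝒳)
    (x : FibCat.overCat (Over.mk (𝟙 S) : Over S) ⥤ᵇ 𝒳)
    (r : Gerb.AutRep x (Gerb.ptsGrp (Over.mk (𝟙 S) : Over S) G)) :
    ∃ ι : AlgSt.BG K₀ G ⥤ᵇ 𝒳, ι.toFunctor.Full ∧ ι.toFunctor.Faithful ∧
      Nonempty (BasedFunctor.comp (bgChart G) ι ≅ x) := by
  let x' : FibCat.overCat (Over.mk (𝟙 S) : Over S) ⥤ᵇ AlgSt.fullSub 𝒳 (LocX x) :=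
    CurvOpen.liftFull x fun a => locX_val h𝒳.1 a
  let r' : Gerb.AutRep x' (Gerb.ptsGrp (Over.mk (𝟙 S) : Over S) G) :=
    { iso := fun T => (r.iso T).trans (autFull (LocX x) (x'.obj T))
      natural := fun h a => ObjectProperty.hom_ext _ (r.natural h a) }
  obtain ⟨e, he, ⟨i⟩⟩ := exists_equiv_chart QuotLib.QuotStack.isStack (isStack_fullSub_locX h𝒳)
    (bgChart_covers G) (y := x') (fun b => by
      obtain ⟨R, hR, hR'⟩ := b.property
      refine ⟨R, hR, fun W f hf => ?_⟩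
      obtain ⟨g, φ, hφ⟩ := hR' f hf
      exact ⟨g, ObjectProperty.homMk φ, (CurvOpen.isHomLift_full_iff _ _).2 hφ⟩)
    (GerbeSection.isoMap x' r')
  haveI := full_of_isEquivOver he
  haveI := faithful_of_isEquivOver he
  haveI : (AlgSt.subIncl 𝒳 (LocX x)).toFunctor.Full := ObjectProperty.full_ι _
  haveI : (AlgSt.subIncl 𝒳 (LocX x)).toFunctor.Faithful := ObjectProperty.faithful_ι _
  exact ⟨BasedFunctor.comp e (AlgSt.subIncl 𝒳 (LocX x)),
    inferInstanceAs (e.toFunctor ⋙ (AlgSt.subIncl 𝒳 (LocX x)).toFunctor).Full,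
    inferInstanceAs (e.toFunctor ⋙ (AlgSt.subIncl 𝒳 (LocX x)).toFunctor).Faithful,
    ⟨whiskerRightIso i (AlgSt.subIncl 𝒳 (LocX x))⟩⟩

end Groth.Agent.MonoBG
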