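import Groth.Agent.MonoBG.Image
import Groth.Agent.AlgStLib.Faithful
import Groth.Agent.AlgStLib.OfSp
import Groth.Agent.AlgSpDec.SpQuot
import Groth.Agent.QuotLib.AtlasProps

/-!
# The classifying stack of a stabilizer is a monomorphism
-/

set_option autoImplicit false
set_option linter.style.haveILetI false
set_option backward.isDefEq.respectTransparency false
set_option backward.isDefEq.respectTransparency.types false

universe u

open CategoryTheory CategoryTheory.Functor CategoryTheory.Limits AlgebraicGeometry Opposite AlgSp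
open Groth.Agent.FibBase Groth.Agent.AlgSpLib Groth.Agent.AlgStLib

namespace Groth.Agent.MonoBG

variable {S : Scheme.{u}}

/-- A setoid stack with a flat, locally finitely presented, surjective chart by a space is a space. -/
theorem repByAlgSp_of_fppf_chart {𝒵 𝒲 : AlgSt.Cat S}
    (hZ : Stk.IsStack (QuotSh.J Scheme.fppfPrecoverage S) 𝒵) (hs : FibCat.IsFibSetoid 𝒵.p)
    (hW : AlgSt.RepByAlgSp 𝒲) (q : 𝒲 ⥤ᵇ 𝒵) (hf : AlgSt.RepByAlgSpWith (LocP @Flat) q)
    (hl : AlgSt.RepByAlgSpWith (LocP @LocallyOfFinitePresentation) q)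
    (hj : AlgSt.RepByAlgSpWith IsSurjectiveMor q) : AlgSt.RepByAlgSp 𝒵 := by
  let P := clsPsh 𝒵 hZ.1
  have he : FibCat.IsEquivOver (toCls 𝒵 hZ.1) := toCls_isEquivOver 𝒵 hZ.1 hs
  have hP : Presheaf.IsSheaf (J S) P := (isSheaf_iff_isSheaf_of_type _ _).2
    ((StkLib.isStack_ofPsh_iff P (J S)).1 ((StkLib.isStack_iff_of_isEquivOver (J := J S) he).1 hZ))
  let F : Sp S := ⟨P, hP⟩
  obtain ⟨X, e, hXe⟩ := hW
  let q' : 𝒲 ⥤ᵇ AlgSt.ofSp F := BasedFunctor.comp q (toCls 𝒵 hZ.1)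
  let Φ : AlgSt.ofSp X.obj ⥤ᵇ AlgSt.ofSp F := BasedFunctor.comp e q'
  have tr : ∀ {P' : MorphismProperty (Sp S)}, AlgSt.RepByAlgSpWith P' q → AlgSt.RepByAlgSpWith P' q' :=
    fun h => (repByAlgSpWith_iff_of_square (f := q') (f' := q) (a := BasedFunctor.id _) (b := toCls 𝒵 hZ.1)
      isEquivOver_id he (Iso.refl _)).2 h
  let p : X.obj ⟶ F := spHom Φ
  have i : BasedFunctor.comp e q' ≅ Stk.ofPshMap p.hom := isoOfSpMap Φ
  have hp : RepBySpWith (IsSurjectiveMor ⊓ LocP @Flat ⊓ LocP @LocallyOfFinitePresentation) p.hom :=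
    fun T ξ F' fst snd sq => by
      obtain ⟨h₁, hA, h₂⟩ := repBySpWith_of_repByAlgSpWith q' e stableBC_isSurjectiveMor hXe (tr hj) i ξ fst snd sq
      obtain ⟨_, _, h₃⟩ := repBySpWith_of_repByAlgSpWith q' e stableBC_locP hXe (tr hf) i ξ fst snd sq
      obtain ⟨_, _, h₄⟩ := repBySpWith_of_repByAlgSpWith q' e stableBC_locP hXe (tr hl) i ξ fst snd sq
      exact ⟨h₁, hA, ⟨h₂, h₃⟩, h₄⟩
  have hF : IsAlgSpace F := AlgSpDec.isAlgSpace_of_fppf_space_cover X.property hp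
  obtain ⟨g, hg, -⟩ := isEquivOver_inv he
  exact ⟨⟨F, hF⟩, g, hg⟩

local notation "K₀" => Scheme.fppfPrecoverage

/-- A point with affine fppf stabilizer gives a monomorphism from its classifying stack. -/
theorem exists_mono_bg (𝒳 : AlgSt.Cat S) (h𝒳 : AlgSt.IsAlgStack K₀ 𝒳)
    (x : FibCat.overCat (Over.mk (𝟙 S) : Over S) ⥤ᵇ 𝒳) (G : Over S) [GrpObj G] [IsAffineHom G.hom]
    [Flat G.hom] [LocallyOfFinitePresentation G.hom]
    (r : Gerb.AutRep x (Gerb.ptsGrp (Over.mk (𝟙 S) : Over S) G)) :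
    ∃ ι : AlgSt.BG K₀ G ⥤ᵇ 𝒳, AlgSt.IsMono ι ∧
      Nonempty (BasedFunctor.comp (IsoNatLib.bgChart G) ι ≅ x) := by
  obtain ⟨ι, hfu, hfa, ⟨i⟩⟩ := exists_bg_functor G h𝒳.isStack x r
  haveI := hfu
  haveI := hfa
  have hB : Stk.IsStack (QuotSh.J K₀ S) (AlgSt.BG K₀ G) := QuotLib.QuotStack.isStack
  have hx : AlgSt.RepByAlgSp1 (BasedFunctor.comp (IsoNatLib.bgChart G) ι) :=
    repByAlgSp1_of_iso i.symm (repByAlgSp1_of_diag h𝒳.isStack.1 h𝒳.diag _ x)
  have hr : AlgSt.RepByAlgSp1 ι := fun U y => by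
    have hst : Stk.IsStack (QuotSh.J K₀ S) (FibCat.fp y ι) := Groth.Agent.StkLib.isStack_fp y ι
      (isAlgStack_overCat U).isStack hB (Groth.Agent.StkLib.isPrestack_of_isStack h𝒳.isStack)
    have hs : FibCat.IsFibSetoid (FibCat.fp y ι).p := isFibSetoid_iff.2 ⟨hst.1, faithful_fp y⟩
    obtain ⟨h₁, h₂, h₃⟩ := QuotLib.quot_flat_lfp_surjective (G := G) (aX := AlgSt.trivAction G)
    exact repByAlgSp_of_fppf_chart hst hs
      ((repByAlgSp_iff_of_equiv (pasteHor y (IsoNatLib.bgChart G) ι)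
        (pasteHor_isEquivOver y (IsoNatLib.bgChart G) ι)).2 (hx U y))
      (FibCat.fpFst (FibCat.fpSnd y ι) (IsoNatLib.bgChart G))
      (repByAlgSpWith_fpFst _ h₁) (repByAlgSpWith_fpFst _ h₂) (repByAlgSpWith_fpFst _ h₃)
  refine ⟨ι, ?_, ⟨i⟩⟩
  have hd : FibCat.IsEquivOver (FibCat.diag ι) :=
    (S6399.result ι hB.1 h𝒳.isStack.1).1 ⟨inferInstance, inferInstance⟩
  refine (repByAlgSpWith_diag_iff (P := MorphismProperty.isomorphisms (Sp S))
    (Q := MorphismProperty.monomorphisms (Sp S)) stableBC_of stableBC_of ?_ hr (fun a _ => ?_)).1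
    (repByAlgSpWith_of_isEquivOver (fun φ h => h) hd)
  · intro F F' hF hF' a ha
    obtain ⟨U, p, hp, hp'⟩ := hF'.atlas
    obtain ⟨h₁, h₂⟩ := (repBySpWith_hom_iff _ a).1 ha p _ _ (IsPullback.of_hasPullback a p)
    exact (isLocalOnBase_fpqc_isomorphisms _ _ hF' (fun _ : PUnit.{u+1} => IsAlgSpace.yon_obj U)
      (isFpqcCover_of_isFppfCover hF' (fun _ : PUnit.{u+1} => IsAlgSpace.yon_obj U) (fun _ => p)
        (isFppfCover_of_repWith_etale hp hp')) a hF
      (fun _ => pullback a p) (fun _ => pullback.snd a p) (fun _ => pullback.fst a p) (fun _ => h₁)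
      (fun _ => IsPullback.of_hasPullback a p)).2 fun _ => h₂
  · exact (pullback.isIso_diagonal_iff a)

end Groth.Agent.MonoBG
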