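import Groth.Agent.IsoNatLib.IsoMap

/-!
# The equivalence of two stacks with matching charts, with its restriction to the charts
-/

set_option autoImplicit false
set_option linter.style.haveILetI false
set_option backward.isDefEq.respectTransparency false
set_option backward.isDefEq.respectTransparency.types false

universe v₄ u₄ v₃ u₃ v₂ u₂ v u

open CategoryTheory CategoryTheory.Functor Groth.Agent.FibBase Groth.Agent.StkLib Groth.Agent.IsoNatLib

namespace Groth.Agent.MonoBG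

variable {C : Type u} [Category.{v} C] {𝒜 : BasedCategory.{v₄, u₄} C} {𝒳 : BasedCategory.{v₂, u₂} C}
  {𝒴 : BasedCategory.{v₃, u₃} C} {J : GrothendieckTopology C} {i : 𝒜 ⥤ᵇ 𝒳} {j : 𝒜 ⥤ᵇ 𝒴}
  (hX : Stk.IsStack J 𝒳) (hY : Stk.IsStack J 𝒴) [i.toFunctor.Full] [i.toFunctor.Faithful]
  [j.toFunctor.Full] [j.toFunctor.Faithful] (hl : HasLifts 𝒜) (hi : Covers J i) (hj : Covers J j)

include hX hY hl hi hj in
/-- Stacks with a common covering fully faithful source are equivalent compatibly with the source. -/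
theorem exists_equiv_of_span' : ∃ e : 𝒳 ⥤ᵇ 𝒴, FibCat.IsEquivOver e ∧
    ∃ w : ∀ c : 𝒜.obj, j.obj c ⟶ e.obj (i.obj c),
      (∀ c, 𝒴.p.map (w c) = eqToHom ((j.w_obj c).trans ((i.w_obj c).symm.trans (e.w_obj (i.obj c)).symm))) ∧
      ∀ {c' c : 𝒜.obj} (n : c' ⟶ c), w c' ≫ e.map (i.map n) = j.map n ≫ w c := by
  have hpX := isPrestack_of_isStack hX
  have hpY := isPrestack_of_isStack hY
  choose b hb using fun a => exists_match hX hY hl hi (j := j) a
  let t : ∀ a, Match i j a (b a) := fun a => (hb a).some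
  choose β hβ₀ hβ using fun {a a' : 𝒳.obj} (α : a ⟶ a') => (t a).exists_hom hpY hj (t a') α
  have huniq : ∀ {a a' : 𝒳.obj} (α : a ⟶ a') (δ : b a ⟶ b a'),
      𝒴.p.map δ = eqToHom (t a).hb ≫ 𝒳.p.map α ≫ eqToHom (t a').hb.symm →
      (∀ c φ, (t a).θ c φ ≫ δ = (t a').θ c (φ ≫ α)) → δ = β α := fun α δ h h' =>
    (t _).hom_ext hpY hj δ (β α) (h.trans (hβ₀ α).symm) fun c φ => (h' c φ).trans (hβ α c φ).symm
  let e₀ : 𝒳.obj ⥤ 𝒴.obj :=
    { obj := b
      map := fun α => β α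
      map_id := fun a => (huniq (𝟙 a) (𝟙 _) (by simp) (fun c φ => by simp)).symm
      map_comp := fun {a a' a''} α α' => (huniq (α ≫ α') (β α ≫ β α')
        (by rw [Functor.map_comp, hβ₀, hβ₀, Functor.map_comp]; simp)
        (fun c φ => by rw [← Category.assoc, hβ, hβ, Category.assoc])).symm }
  let e : 𝒳 ⥤ᵇ 𝒴 :=
    { toFunctor := e₀
      w := CategoryTheory.Functor.ext (fun a => (t a).hb) fun a a' α => hβ₀ α }
  refine ⟨e, isEquivOver_of_exists_iso e ⟨fun {a a'} δ => ?_⟩ ⟨fun {a a'} α α' h => ?_⟩ fun η => ?_, ?_⟩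
  · obtain ⟨α, hα₀, hα⟩ := (t a).symm.exists_hom hpX hi (t a').symm δ
    refine ⟨α, (huniq α δ (by rw [hα₀]; simp) fun c φ => ?_).symm⟩
    have h₁ := hα c ((t a).θ c φ)
    rw [show (t a).symm.θ c ((t a).θ c φ) = φ from Equiv.symm_apply_apply _ _] at h₁
    rw [h₁]
    exact (Equiv.apply_symm_apply _ _).symm
  · have h' : β α = β α' := h
    refine hom_ext_cover hpX hi α α' ?_ fun c φ => ((t a').θ c).injective ?_
    · have h₁ := hβ₀ α
      rw [h', hβ₀ α', cancel_epi, cancel_mono] at h₁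
      exact h₁.symm
    · rw [← hβ, ← hβ, h']
  · obtain ⟨a, ⟨s⟩⟩ := exists_match hY hX hl hj (j := i) η
    have ha : 𝒳.p.obj a = 𝒴.p.obj η := s.hb
    obtain ⟨m, hm, -⟩ := (t a).exists_hom hpY hj s.symm (𝟙 a)
    have hml : 𝒴.p.IsHomLift (𝟙 (𝒴.p.obj η)) m := isHomLift_id_of_map_eq ((t a).hb.trans ha) rfl (by
      rw [hm]; simp)
    have := isIso_of_lift (hp := hY.1) (𝟙 (𝒴.p.obj η)) m
    exact ⟨a, asIso m, hml⟩
  · refine ⟨fun c => (t (i.obj c)).θ c (𝟙 _), fun c => ?_, fun {c' c} n => ?_⟩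
    · rw [(t (i.obj c)).base, 𝒳.p.map_id]
      simp
    · show (t (i.obj c')).θ c' (𝟙 _) ≫ β (i.map n) = _
      rw [hβ, Category.id_comp, ← (t (i.obj c)).nat, Category.comp_id]

/-- The map from a slice to the full image of a chart. -/
def toImg {U : C} (x : FibCat.overCat U ⥤ᵇ 𝒳) : FibCat.overCat U ⥤ᵇ fullImg x where
  toFunctor :=
    { obj := fun a => ⟨a.left, a.hom⟩
      map := fun {a a'} f => InducedCategory.homMk (x.map f)
      map_id := fun a => InducedCategory.hom_ext (x.toFunctor.map_id a)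
      map_comp := fun f g => InducedCategory.hom_ext (x.toFunctor.map_comp f g) }
  w := x.w

/-- Charts with matching isomorphisms which cover give an equivalence carrying one chart to the other. -/
theorem exists_equiv_chart {U : C} (hX : Stk.IsStack J 𝒳) (hY : Stk.IsStack J 𝒴) {x : FibCat.overCat U ⥤ᵇ 𝒳}
    {y : FibCat.overCat U ⥤ᵇ 𝒴}
    (hx : ∀ a : 𝒳.obj, ∃ R ∈ J (𝒳.p.obj a),
      ∀ ⦃V : C⦄ (f : V ⟶ 𝒳.p.obj a), R f → ∃ (g : V ⟶ U) (φ : x.obj (Over.mk g) ⟶ a), 𝒳.p.IsHomLift f φ)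
    (hy : ∀ b : 𝒴.obj, ∃ R ∈ J (𝒴.p.obj b),
      ∀ ⦃V : C⦄ (f : V ⟶ 𝒴.p.obj b), R f → ∃ (g : V ⟶ U) (φ : y.obj (Over.mk g) ⟶ b), 𝒴.p.IsHomLift f φ)
    (ρ : IsoMap x y) :
    ∃ e : 𝒳 ⥤ᵇ 𝒴, FibCat.IsEquivOver e ∧ Nonempty (BasedFunctor.comp x e ≅ y) := by
  haveI := hX.1
  haveI := hY.1
  haveI := ρ.mapImg_full
  haveI := ρ.mapImg_faithful
  haveI : (fullImgIncl x).toFunctor.Full := InducedCategory.full _
  haveI : (fullImgIncl x).toFunctor.Faithful := InducedCategory.faithful _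
  obtain ⟨e, he, w, hw, hwn⟩ := exists_equiv_of_span' (i := fullImgIncl x) (j := ρ.mapImg) hX hY
    (hasLifts_fullImg x)
    (fun a => let ⟨R, hR, hR'⟩ := hx a; ⟨R, hR, fun V f hf => let ⟨g, φ, hφ⟩ := hR' f hf; ⟨⟨V, g⟩, φ, hφ⟩⟩)
    (fun b => let ⟨R, hR, hR'⟩ := hy b; ⟨R, hR, fun V f hf => let ⟨g, φ, hφ⟩ := hR' f hf; ⟨⟨V, g⟩, φ, hφ⟩⟩)
  have hlift : ∀ a : (FibCat.overCat U).obj, 𝒴.p.IsHomLift (𝟙 a.left) (w ((toImg x).obj a)) := fun a =>
    IsHomLift.of_fac' _ _ _ (y.w_obj a) ((e.w_obj _).trans (x.w_obj a)) (by rw [hw]; simp)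
  haveI : ∀ a : (FibCat.overCat U).obj, IsIso (w ((toImg x).obj a)) := fun a =>
    haveI := hlift a
    isIso_of_lift (hp := hY.1) (𝟙 a.left) _
  refine ⟨e, he, ⟨(BasedNatIso.mkNatIso (NatIso.ofComponents (fun a => asIso (w ((toImg x).obj a)))
    fun {a a'} f => ?_) hlift).symm⟩⟩
  have h := hwn ((toImg x).map f)
  have h' : ρ.ext' (x.map f) = y.map f := by
    have := ρ.ext'_eq (Iso.refl (fib x (Over.mk a.hom))) (f : Over.mk a.hom ⟶ Over.mk a'.hom)
    rw [ρ.refl] at this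
    have t' : ρ.ext' (𝟙 (x.obj a) ≫ x.map f) = 𝟙 (y.obj a) ≫ y.map f := this
    exact (congrArg ρ.ext' (Category.id_comp (x.map f))).symm.trans (t'.trans (Category.id_comp _))
  show y.map f ≫ w ((toImg x).obj a') = w ((toImg x).obj a) ≫ e.map (x.map f)
  rw [← h']
  exact h.symm

end Groth.Agent.MonoBG
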